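import Groth.Agent.Dual3Lib.SerreIntegral
import Groth.Agent.Dual3Lib.DualizingModule
import Groth.Agent.FMKLib.CMDual
import Groth.Prelude.Def_KLin
import Groth.Prelude.Def_Canon

/-!
# Serre duality for Cohen–Macaulay equidimensional proper schemes over a field, in every degree
-/

set_option autoImplicit false
set_option linter.style.haveILetI false
set_option backward.isDefEq.respectTransparency false
set_option backward.isDefEq.respectTransparency.types false
set_option maxHeartbeats 1000000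
set_option synthInstance.maxHeartbeats 200000

universe u

open CategoryTheory CategoryTheory.Limits AlgebraicGeometry DerivedCategory

attribute [local instance] HasDerivedCategory.standard

noncomputable section

namespace Groth.Agent.FieldDualLib

open Groth.Agent.Dual3Lib

variable {k : Type u} [Field k] {X : Scheme.{u}} [X.Over (Spec (CommRingCat.of k))]

/-- The Yoneda pairing `Hom(G, ω[j]) × Hom(O, G[m]) → k`, `(e, x) ↦ t (x ≫ e[m])`. -/
def pairing {ω : X.Modules} {n : ℤ} (t : (uO X ⟶ (DCoh.inD X ω)⟦n⟧) →ₗ[k] k) (G : X.Modules)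
    (j m : ℤ) (h : j + m = n) :
    (DCoh.inD X G ⟶ (DCoh.inD X ω)⟦j⟧) →ₗ[k] Module.Dual k (uO X ⟶ (DCoh.inD X G)⟦m⟧) :=
  LinearMap.mk₂ k (fun e x => t (x ≫ (shiftFunctor (DCoh.D X) m).map e ≫
      (shiftFunctorAdd' (DCoh.D X) j m n h).inv.app (DCoh.inD X ω)))
    (fun e e' x => by simp only [Functor.map_add, Preadditive.add_comp, Preadditive.comp_add, map_add])
    (fun c e x => by simp only [Functor.map_smul, Linear.smul_comp, Linear.comp_smul, map_smul])
    (fun e x x' => by simp only [Preadditive.add_comp, map_add])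
    (fun c e x => by simp only [Linear.smul_comp, map_smul])

theorem pairing_natural {ω : X.Modules} {n : ℤ} (t : (uO X ⟶ (DCoh.inD X ω)⟦n⟧) →ₗ[k] k)
    {G G' : X.Modules} (φ : G ⟶ G') (j m : ℤ) (h : j + m = n) (e : DCoh.inD X G' ⟶ (DCoh.inD X ω)⟦j⟧)
    (x : uO X ⟶ (DCoh.inD X G)⟦m⟧) :
    pairing t G j m h ((singleFunctor X.Modules 0).map φ ≫ e) x =
      pairing t G' j m h e (x ≫ (shiftFunctor (DCoh.D X) m).map ((singleFunctor X.Modules 0).map φ)) := by
  show t _ = t _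
  rw [Functor.map_comp, Category.assoc, Category.assoc]

theorem bijective_pairing_of {ω : X.Modules} {n : ℤ} {K : DCoh.D X} (c : (DCoh.inD X ω)⟦n⟧ ≅ K)
    (t : (uO X ⟶ K) →ₗ[k] k) (G : X.Modules) (j m : ℤ) (h : j + m = n)
    (hd : ∀ ψ : (uO X ⟶ (DCoh.inD X G)⟦m⟧) →ₗ[k] k,
      ∃! φ : (DCoh.inD X G)⟦m⟧ ⟶ K, ∀ x, t (x ≫ φ) = ψ x) :
    Function.Bijective (pairing (t.comp (Linear.rightComp k (uO X) c.hom)) G j m h) := by
  let b : (DCoh.inD X G ⟶ (DCoh.inD X ω)⟦j⟧) ≃ ((DCoh.inD X G)⟦m⟧ ⟶ K) :=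
    (Functor.FullyFaithful.ofFullyFaithful (shiftFunctor (DCoh.D X) m)).homEquiv.trans
      (((shiftFunctorAdd' (DCoh.D X) j m n h).app (DCoh.inD X ω)).symm ≪≫ c).homToEquiv
  have hb : ∀ e x, pairing (t.comp (Linear.rightComp k (uO X) c.hom)) G j m h e x = t (x ≫ b e) := fun e x => by
    show t ((x ≫ _ ≫ _) ≫ c.hom) = t (x ≫ _ ≫ _ ≫ _)
    simp only [Category.assoc]
    rfl
  refine ⟨fun e e' he => b.injective
    ((hd (pairing (t.comp (Linear.rightComp k (uO X) c.hom)) G j m h e)).unique (fun x => (hb e x).symm)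
      fun x => ?_), fun ψ => ?_⟩
  · rw [← hb, he]
  · obtain ⟨φ, hφ, -⟩ := hd ψ
    exact ⟨b.symm φ, LinearMap.ext fun x => by rw [hb, Equiv.apply_symm_apply]; exact hφ x⟩

/-- **Duality in every degree** for a given right adjoint of `Rf_*`. -/
theorem exists_duality [IsProper (X ↘ Spec (CommRingCat.of k))]
    (hCM : ∀ x : X, LocCoh.IsCohenMacaulayLocalRing (X.presheaf.stalk x)) (n : ℕ)
    (heq : ∀ Z ∈ irreducibleComponents (X : Type u), topologicalKrullDim Z = (n : WithBot ℕ∞))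
    (hdim : topologicalKrullDim X = (n : WithBot ℕ∞))
    [DCoh.HasRpush (X ↘ Spec (CommRingCat.of k))] (hf : DCoh.RpushPreservesQCoh (X ↘ Spec (CommRingCat.of k)))
    (a : DCoh.DQCoh (Spec (CommRingCat.of k)) ⥤ DCoh.DQCoh X)
    (adj : DCoh.RpushQ (X ↘ Spec (CommRingCat.of k)) hf ⊣ a) (O : DCoh.DQCoh (Spec (CommRingCat.of k)))
    (eO : O.obj ≅ DCoh.inD (Spec (CommRingCat.of k)) (Coh.structureModule (Spec (CommRingCat.of k)))) :
    Coh.IsCoh (DCoh.HD (a.obj O).obj (-(n : ℤ))) ∧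
      ∃ t : (uO X ⟶ (DCoh.inD X (DCoh.HD (a.obj O).obj (-(n : ℤ))))⟦(n : ℤ)⟧) →ₗ[k] k,
        ∀ G : X.Modules, Coh.IsQCoh G → ∀ (j m : ℤ) (h : j + m = (n : ℤ)),
          Function.Bijective (pairing t G j m h) := by
  obtain ⟨hcoh, ⟨ew⟩⟩ := FMKLib.nonempty_rightAdjoint_iso_single (X ↘ Spec (CommRingCat.of k)) hf a adj O eO
    hCM n hdim heq
  obtain ⟨t, ht⟩ := exists_integral hf adj O eO
  let c : (DCoh.inD X (DCoh.HD (a.obj O).obj (-(n : ℤ))))⟦(n : ℤ)⟧ ≅ (a.obj O).obj :=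
    ((SingleFunctors.shiftIso (singleFunctors X.Modules) (n : ℤ) (-(n : ℤ)) 0 (by omega))).app _ ≪≫ ew.symm
  exact ⟨hcoh, t.comp (Linear.rightComp k (uO X) c.hom), fun G hG j m h =>
    bijective_pairing_of c t G j m h fun ψ =>
      ht _ (KFlatLib.isQCohD_shift (PerfBaseLib.isQCohD_inD G hG) m) ψ⟩

/-- **Duality in every degree.** -/
theorem exists_duality' [IsProper (X ↘ Spec (CommRingCat.of k))]
    (hCM : ∀ x : X, LocCoh.IsCohenMacaulayLocalRing (X.presheaf.stalk x)) (n : ℕ)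
    (heq : ∀ Z ∈ irreducibleComponents (X : Type u), topologicalKrullDim Z = (n : WithBot ℕ∞))
    (hdim : topologicalKrullDim X = (n : WithBot ℕ∞)) :
    ∃ (ω : X.Modules) (t : (uO X ⟶ (DCoh.inD X ω)⟦(n : ℤ)⟧) →ₗ[k] k), Coh.IsCoh ω ∧
      ∀ G : X.Modules, Coh.IsQCoh G → ∀ (j m : ℤ) (h : j + m = (n : ℤ)),
        Function.Bijective (pairing t G j m h) := by
  haveI : CompactSpace X := QuasiCompact.compactSpace_of_compactSpace (X ↘ Spec (CommRingCat.of k))
  haveI : QuasiSeparatedSpace X := quasiSeparatedSpace_of_quasiSeparated (X ↘ Spec (CommRingCat.of k))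
  haveI : DCoh.HasRpush (X ↘ Spec (CommRingCat.of k)) := DCohRestrLib.hasRpush _
  have hf : DCoh.RpushPreservesQCoh (X ↘ Spec (CommRingCat.of k)) := fun K hK => QRlimLib.isQCohD_rpush _ hK
  haveI := Groth.Agent.S1766.result X (Spec (CommRingCat.of k)) (X ↘ Spec (CommRingCat.of k)) hf
  obtain ⟨hc, t, ht⟩ := exists_duality hCM n heq hdim hf _
    (Adjunction.ofIsLeftAdjoint (DCoh.RpushQ (X ↘ Spec (CommRingCat.of k)) hf))
    ⟨DCoh.inD _ (Coh.structureModule _), PerfBaseLib.isQCohD_inD _ QCohLib.isQCoh_unit⟩ (Iso.refl _)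
  exact ⟨_, t, hc, ht⟩

section Translate

variable [HasExt.{u} X.Modules]

/-- `Hom(O, G[m]) = H^m(X, G)`, linearly. -/
def homEquivHH (G : X.Modules) (m : ℕ) : (uO X ⟶ (DCoh.inD X G)⟦(m : ℤ)⟧) ≃ₗ[k] Coh.HH X G m :=
  { toY G m with
    map_smul' := fun r y => by
      haveI : DCoh.HasRpush (X ↘ Spec (CommRingCat.of k)) := DCohRestrLib.hasRpush _
      show toY G m (r • y) = r • toY G m y
      rw [over_smul_def, toY_smul]
      rfl }

theorem homEquivHH_natural {G G' : X.Modules} (φ : G ⟶ G') (m : ℕ) (y : uO X ⟶ (DCoh.inD X G)⟦(m : ℤ)⟧) :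
    homEquivHH (k := k) G' m (y ≫ (shiftFunctor (DCoh.D X) (m : ℤ)).map ((singleFunctor X.Modules 0).map φ)) =
      Canon.HHlin k φ m (homEquivHH (k := k) G m y) :=
  toY_natural φ m y

end Translate

end Groth.Agent.FieldDualLib
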